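import Groth.Agent.H26Ext.Ideal
import Groth.Agent.H26Van.Main
import Groth.Agent.H29Blow.IdealMod
import Groth.Agent.H17.OmegaLocal
import Mathlib

/-!
# The structure sheaf of a thickened divisor, and vanishing on it
-/

set_option autoImplicit false
set_option linter.style.haveILetI false
set_option backward.isDefEq.respectTransparency false
set_option backward.isDefEq.respectTransparency.types false

universe u

open CategoryTheory CategoryTheory.Limits AlgebraicGeometry TopologicalSpace TensorProduct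

namespace Groth.Agent.H26Ext

open H8Props

variable {P : Scheme.{u}}

theorem isQCoh_quotMod (K : P.IdealSheafData) : Coh.IsQCoh (ClSub.quotMod K) := by
  haveI : (Coh.structureModule K.subscheme).IsQuasicoherent := H10Coh.isQuasicoherent_unit
  exact H10Coh.isQuasicoherent_pushforward_of_isAffineHom _ _

/-- The projection to a quotient on sections, linearly. -/
noncomputable def quotLin (K : P.IdealSheafData) (U : P.Opens) : Γ(P, U) →ₗ[Γ(P, U)] Γ(ClSub.quotMod K, U) :=
  FunDescent.secLin (ClSub.toSubscheme K) U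

theorem quotLin_surjective (K : P.IdealSheafData) (U : P.affineOpens) : Function.Surjective (quotLin K U.1) :=
  K.subschemeι_app_surjective U

theorem quotLin_eq_zero_iff (K : P.IdealSheafData) (U : P.affineOpens) (x : Γ(P, U.1)) :
    quotLin K U.1 x = 0 ↔ x ∈ K.ideal U := by
  rw [← K.ker_subschemeι_app U, RingHom.mem_ker]
  exact Iff.rfl

/-- The sections of the structure sheaf of a closed subscheme. -/
noncomputable def quotEquiv (K : P.IdealSheafData) (U : P.affineOpens) :
    (Γ(P, U.1) ⧸ K.ideal U) ≃ₗ[Γ(P, U.1)] Γ(ClSub.quotMod K, U.1) :=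
  (Submodule.quotEquivOfEq _ _ (Submodule.ext fun x => by
    rw [LinearMap.mem_ker]; exact (quotLin_eq_zero_iff K U x).symm)).trans
    (LinearMap.quotKerEquivOfSurjective (quotLin K U.1) (quotLin_surjective K U))

theorem quotEquiv_mk (K : P.IdealSheafData) (U : P.affineOpens) (x : Γ(P, U.1)) :
    quotEquiv K U (Ideal.Quotient.mk _ x) = quotLin K U.1 x := rfl

/-- Finite presentation of the structure sheaf of a locally principal closed subscheme. -/
theorem isFP_quotMod (K : P.IdealSheafData) (h : ∀ x : P, ∃ U : P.affineOpens, x ∈ U.1 ∧ (K.ideal U).FG) :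
    CohB1.IsFP (ClSub.quotMod K) := by
  choose U hxU hfg using h
  refine FinLocFree.isFP_of_affineCover _ (isQCoh_quotMod K) (fun x => (U x).1)
    (top_le_iff.1 fun x _ => Opens.mem_iSup.2 ⟨x, hxU x⟩) (fun x => (U x).2) fun x => ?_
  haveI : Module.FinitePresentation Γ(P, (U x).1) (Γ(P, (U x).1) ⧸ K.ideal (U x)) :=
    Module.finitePresentation_of_surjective (Submodule.mkQ _) (Submodule.mkQ_surjective _)
      (by rw [Submodule.ker_mkQ]; exact hfg x)
  exact Module.FinitePresentation.of_equiv (quotEquiv K (U x))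

variable {S : Scheme.{u}} (π : P ⟶ S)

/-- Flatness of the structure sheaf of a flat closed subscheme. -/
theorem isFlatOver_quotMod (K : P.IdealSheafData) [Flat (K.subschemeι ≫ π)] :
    FlatMod.IsFlatOver π (ClSub.quotMod K) := by
  intro x
  obtain ⟨W, hW, hxW, -⟩ := exists_isAffineOpen_mem_and_subset (x := π x) (U := (⊤ : S.Opens)) trivial
  obtain ⟨U, hU, hxU, hUW⟩ := exists_isAffineOpen_mem_and_subset (x := x) (U := π ⁻¹ᵁ W) hxW
  refine (FlatLocus.flat_sections_over_iff π _ (isQCoh_quotMod K) hW hU hUW).1 ?_ ⟨x, hxU⟩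
  letI := (π.appLE W U hUW).hom.toAlgebra
  letI := Module.compHom Γ(ClSub.quotMod K, U) (π.appLE W U hUW).hom
  haveI : IsScalarTower Γ(S, W) Γ(P, U) Γ(ClSub.quotMod K, U) := .of_algebraMap_smul fun _ _ => rfl
  haveI : Module.Flat Γ(S, W) (Γ(P, U) ⧸ K.ideal ⟨U, hU⟩) := RingHom.flat_algebraMap_iff.1 (by
    convert H29Blow.flat_appLE_quot π K ⟨W, hW⟩ ⟨U, hU⟩ hUW using 1
    rfl)
  exact Module.Flat.of_linearEquiv ((quotEquiv K ⟨U, hU⟩).restrictScalars Γ(S, W)).symm

theorem flat_pow_succ {I : P.IdealSheafData} (hI : BlowUp.IsEffCartierIdeal I) [Flat (I.subschemeι ≫ π)] (n : ℕ) :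
    BlowUp.IsEffCartierIdeal (I ^ (n + 1)) ∧ Flat ((I ^ (n + 1)).subschemeι ≫ π) := by
  induction n with
  | zero => rw [zero_add, pow_one]; exact ⟨hI, inferInstance⟩
  | succ n ih =>
    obtain ⟨h1, h2⟩ := ih
    rw [pow_succ]
    exact ⟨H29Blow.isEffCartierIdeal_mul h1 hI, H29Blow.flat_mul π h1 hI⟩

omit π S in
/-- Vanishing of an ideal in the quotient by another, after a change of rings. -/
theorem van_ideal_iff (J K : P.IdealSheafData) {U : P.Opens} (hU : IsAffineOpen U) {D : CommRingCat.{u}}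
    (φ : Γ(P, U) ⟶ D) :
    H26Van.Van (ClSub.idealModι J ≫ ClSub.toSubscheme K) (Spec.map φ ≫ hU.fromSpec) ↔
      ∀ x ∈ J.ideal ⟨U, hU⟩, φ x ∈ (K.ideal ⟨U, hU⟩).map φ.hom := by
  rw [H26Van.van_specMap_iff (H17.OmegaLocal.isQuasicoherent_idealMod J) (isQCoh_quotMod K) hU φ]
  letI := φ.hom.toAlgebra
  let e := (TensorProduct.congr (LinearEquiv.refl Γ(P, U) D) (quotEquiv K ⟨U, hU⟩).symm).trans
    (TensorProduct.tensorQuotEquivQuotSMul D (K.ideal ⟨U, hU⟩))
  have he : ∀ x : Γ(P, U), e ((1 : D) ⊗ₜ[Γ(P, U)] quotLin K U x) = Submodule.Quotient.mk (φ x) := fun x => by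
    show TensorProduct.tensorQuotEquivQuotSMul D (K.ideal ⟨U, hU⟩)
      ((1 : D) ⊗ₜ[Γ(P, U)] (quotEquiv K ⟨U, hU⟩).symm (quotLin K U x)) = _
    rw [show (quotEquiv K ⟨U, hU⟩).symm (quotLin K U x) = Submodule.Quotient.mk x from
      (LinearEquiv.symm_apply_eq _).2 (quotEquiv_mk K ⟨U, hU⟩ x).symm]
    refine (TensorProduct.tensorQuotEquivQuotSMul_tmul_mk (R := Γ(P, U)) (M := D) _ (1 : D) x).trans ?_
    exact congrArg Submodule.Quotient.mk (Algebra.algebraMap_eq_smul_one x).symm
  have hiff : ∀ x : Γ(P, U), (1 : D) ⊗ₜ[Γ(P, U)] quotLin K U x = 0 ↔ φ x ∈ (K.ideal ⟨U, hU⟩).map φ.hom := fun x => by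
    rw [← e.map_eq_zero_iff, he, Submodule.Quotient.mk_eq_zero, Ideal.smul_top_eq_map]
    exact Iff.rfl
  constructor
  · intro h x hx
    obtain ⟨m, rfl⟩ := (H29Blow.mem_ideal_iff_exists_idealSect J hU x).1 hx
    exact (hiff _).1 (h m)
  · intro h m
    exact (hiff _).2 (h _ ((H29Blow.mem_ideal_iff_exists_idealSect J hU _).2 ⟨m, rfl⟩))

end Groth.Agent.H26Ext
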