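import Mathlib

/-!
# Algebra for sections extending over a principal divisor
-/

set_option autoImplicit false

universe u

open TensorProduct

namespace Groth.Agent.H26Ext

/-- Regularity of a regular element with flat cokernel after a change of rings. -/
theorem mem_nonZeroDivisors_pushout {A C B D : Type u} [CommRing A] [CommRing C] [CommRing B] [CommRing D]
    [Algebra A C] [Algebra A B] [Algebra A D] [Algebra C D] [Algebra B D] [IsScalarTower A C D] [IsScalarTower A B D]
    [Algebra.IsPushout A C B D] {t : B} (ht : t ∈ nonZeroDivisors B) [Module.Flat A (B ⧸ Ideal.span {t})] :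
    algebraMap B D t ∈ nonZeroDivisors D := by
  let g : B →ₗ[A] B := (LinearMap.mulLeft B t).restrictScalars A
  let f : B →ₗ[A] B ⧸ Ideal.span {t} := (Ideal.Quotient.mkₐ A (Ideal.span {t})).toLinearMap
  have hg : Function.Injective g := fun x y h => by
    have : (x - y) * t = 0 := by rw [mul_comm, mul_sub]; exact sub_eq_zero.2 h
    exact sub_eq_zero.1 (mem_nonZeroDivisors_iff_right.1 ht _ this)
  have hfg : Function.Exact g f := fun x => by
    show Ideal.Quotient.mk (Ideal.span {t}) x = 0 ↔ x ∈ Set.range fun y => t * y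
    rw [Ideal.Quotient.eq_zero_iff_mem, Ideal.mem_span_singleton']
    exact ⟨fun ⟨a, ha⟩ => ⟨a, (mul_comm t a).trans ha⟩, fun ⟨a, ha⟩ => ⟨a, (mul_comm a t).trans ha⟩⟩
  have hinj := LinearMap.lTensor_injective_of_exact_of_flat f Ideal.Quotient.mk_surjective g hg hfg C
  let e := Algebra.IsPushout.equiv A C B D
  have hcomp : ∀ z : C ⊗[A] B, e (g.lTensor C z) = algebraMap B D t * e z := fun z => by
    induction z with
    | zero => simp
    | add a b ha hb => simp [ha, hb, mul_add]
    | tmul c b =>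
      rw [LinearMap.lTensor_tmul]
      simp [e, Algebra.IsPushout.equiv_tmul, g]
      ring
  rw [mem_nonZeroDivisors_iff_right]
  intro d hd
  obtain ⟨z, rfl⟩ := e.surjective d
  have h0 : g.lTensor C z = 0 := e.injective (by rw [hcomp, mul_comm, hd, map_zero])
  rw [hinj (h0.trans (map_zero _).symm), map_zero]

section span

variable {B Q R : Type u} [CommRing B] [CommRing Q] [CommRing R] (ρ : B →+* Q) (σ : R →+* Q) (I : Ideal B)

/-- The span of the products of values with elements of an ideal. -/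
def prodSpan : AddSubgroup Q :=
  AddSubgroup.closure {z | ∃ (a : R) (x : B), x ∈ I ∧ z = σ a * ρ x}

theorem mem_prodSpan (a : R) {x : B} (hx : x ∈ I) : σ a * ρ x ∈ prodSpan ρ σ I :=
  AddSubgroup.subset_closure ⟨a, x, hx, rfl⟩

theorem mul_mem_prodSpan (b : B) {z : Q} (hz : z ∈ prodSpan ρ σ I) : ρ b * z ∈ prodSpan ρ σ I := by
  induction hz using AddSubgroup.closure_induction with
  | mem z hz =>
    obtain ⟨a, x, hx, rfl⟩ := hz
    rw [mul_left_comm, ← map_mul]
    exact mem_prodSpan ρ σ I a (I.mul_mem_left b hx)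
  | zero => rw [mul_zero]; exact zero_mem _
  | add u v _ _ hu hv => rw [mul_add]; exact add_mem hu hv
  | neg u _ hu => rw [mul_neg]; exact neg_mem hu

/-- The elements which become products of values with elements of an ideal. -/
def secIdeal : Ideal B where
  carrier := {u | ρ u ∈ prodSpan ρ σ I}
  add_mem' hu hv := by simp only [Set.mem_setOf_eq, map_add]; exact add_mem hu hv
  zero_mem' := by simp only [Set.mem_setOf_eq, map_zero]; exact zero_mem _
  smul_mem' b u hu := by simp only [Set.mem_setOf_eq, smul_eq_mul, map_mul]; exact mul_mem_prodSpan ρ σ I b hu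

theorem mem_secIdeal (u : B) : u ∈ secIdeal ρ σ I ↔ ρ u ∈ prodSpan ρ σ I := Iff.rfl

/-- `secIdeal` commutes with localisation at an element. -/
theorem map_secIdeal {B' Q' R' : Type u} [CommRing B'] [CommRing Q'] [CommRing R'] (ρ' : B' →+* Q') (σ' : R' →+* Q')
    (b : B →+* B') (q : Q →+* Q') (a : R →+* R') (hρ : q.comp ρ = ρ'.comp b) (hσ : q.comp σ = σ'.comp a)
    (r : B) (w : R) (hw : σ w = ρ r)
    (hB : letI := b.toAlgebra; IsLocalization.Away r B') (hQ : letI := q.toAlgebra; IsLocalization.Away (ρ r) Q')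
    (hR : letI := a.toAlgebra; IsLocalization.Away w R') :
    (secIdeal ρ σ I).map b = secIdeal ρ' σ' (I.map b) := by
  letI := b.toAlgebra
  letI := q.toAlgebra
  letI := a.toAlgebra
  haveI := hB; haveI := hQ; haveI := hR
  have h1 : ∀ z ∈ prodSpan ρ σ I, q z ∈ prodSpan ρ' σ' (I.map b) := fun z hz => by
    induction hz using AddSubgroup.closure_induction with
    | mem z hz =>
      obtain ⟨c, x, hx, rfl⟩ := hz
      rw [map_mul, show q (σ c) = σ' (a c) from congr($hσ c), show q (ρ x) = ρ' (b x) from congr($hρ x)]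
      exact mem_prodSpan _ _ _ _ (Ideal.mem_map_of_mem b hx)
    | zero => rw [map_zero]; exact zero_mem _
    | add u v _ _ hu hv => rw [map_add]; exact add_mem hu hv
    | neg u _ hu => rw [map_neg]; exact neg_mem hu
  refine le_antisymm (Ideal.map_le_iff_le_comap.2 fun u hu => ?_) fun u' hu' => ?_
  · rw [Ideal.mem_comap, mem_secIdeal, show ρ' (b u) = q (ρ u) from congr($hρ u).symm]
    exact h1 _ hu
  · have hclear : ∀ z' ∈ prodSpan ρ' σ' (I.map b), ∃ (m : ℕ) (z : Q), z ∈ prodSpan ρ σ I ∧ q z = q (ρ r) ^ m * z' := by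
      intro z' hz'
      induction hz' using AddSubgroup.closure_induction with
      | mem z' hz' =>
        obtain ⟨c', x', hx', rfl⟩ := hz'
        obtain ⟨c, k, hc⟩ := IsLocalization.Away.surj w c'
        obtain ⟨⟨⟨x, hx⟩, ⟨_, l, rfl⟩⟩, hxl⟩ := (IsLocalization.mem_map_algebraMap_iff (Submonoid.powers r) B').1 hx'
        refine ⟨c + l, σ k * ρ x, mem_prodSpan _ _ _ _ hx, ?_⟩
        have e1 : σ' c' * q (ρ r) ^ c = q (σ k) := by
          rw [← hw, show q (σ k) = σ' (a k) from congr($hσ k), show q (σ w) = σ' (a w) from congr($hσ w), ← map_pow,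
            ← map_mul]
          exact congrArg σ' hc
        have e2 : ρ' x' * q (ρ r) ^ l = q (ρ x) := by
          rw [show q (ρ x) = ρ' (b x) from congr($hρ x), show q (ρ r) = ρ' (b r) from congr($hρ r), ← map_pow,
            ← map_mul, ← map_pow]
          exact congrArg ρ' hxl
        rw [map_mul, ← e1, ← e2, pow_add]
        ring
      | zero => exact ⟨0, 0, zero_mem _, by simp⟩
      | add u v _ _ hu hv =>
        obtain ⟨m, z, hz, hzu⟩ := hu
        obtain ⟨n, z', hz', hzv⟩ := hv
        refine ⟨m + n, ρ (r ^ n) * z + ρ (r ^ m) * z',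
          add_mem (mul_mem_prodSpan _ _ _ _ hz) (mul_mem_prodSpan _ _ _ _ hz'), ?_⟩
        simp only [map_add, map_mul, map_pow, hzu, hzv, pow_add]
        ring
      | neg u _ hu =>
        obtain ⟨m, z, hz, hzu⟩ := hu
        exact ⟨m, -z, neg_mem hz, by rw [map_neg, hzu, mul_neg]⟩
    obtain ⟨k, u, hu⟩ : ∃ (k : ℕ) (u : B), u' * b r ^ k = b u := by
      obtain ⟨k, u, hk⟩ := IsLocalization.Away.surj r u'
      exact ⟨k, u, hk⟩
    obtain ⟨m, z, hz, hzu⟩ := hclear _ hu'
    have e3 : q z * q (ρ r) ^ k = q (ρ r ^ m * ρ u) := by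
      rw [hzu, map_mul, map_pow, show q (ρ u) = ρ' (b u) from congr($hρ u), ← hu, map_mul, map_pow,
        show q (ρ r) = ρ' (b r) from congr($hρ r)]
      ring
    rw [← map_pow, ← map_mul] at e3
    obtain ⟨⟨_, l, rfl⟩, hl⟩ := (IsLocalization.eq_iff_exists (Submonoid.powers (ρ r)) Q').1 e3
    have hmem : r ^ (l + m) * u ∈ secIdeal ρ σ I := by
      rw [mem_secIdeal]
      have e4 : ρ (r ^ (l + m) * u) = ρ (r ^ (l + k)) * z := by
        simp only at hl
        rw [map_mul, map_pow, map_pow, pow_add, pow_add, mul_assoc, ← hl]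
        ring
      rw [e4]
      exact mul_mem_prodSpan _ _ _ _ hz
    have hu'' : b r ^ (l + m + k) * u' = b (r ^ (l + m) * u) := by
      rw [map_mul, map_pow, ← hu, pow_add]; ring
    have hunit : IsUnit (b r ^ (l + m + k)) := (IsLocalization.Away.algebraMap_isUnit (S := B') r).pow _
    exact (Ideal.unit_mul_mem_iff_mem _ hunit).1 (hu''.symm ▸ Ideal.mem_map_of_mem b hmem)

end span

/-- Extension over a principal divisor, through the numerators. -/
theorem range_le_iff_forall_mem_span {B Q R D Q' : Type u} [CommRing B] [CommRing Q] [CommRing R] [CommRing D]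
    [CommRing Q'] (ρ : B →+* Q) (σ : R →+* Q) (ι : B →+* R) (hσι : σ.comp ι = ρ) (φ : B →+* D) (θ : Q →+* Q')
    (ρ' : D →+* Q') (hθ : θ.comp ρ = ρ'.comp φ) (hinj : Function.Injective ρ') (t : B) (n : ℕ)
    (hunit : IsUnit (ρ' (φ t))) (G : Finset R) (hG : Subring.closure (Set.range ι ∪ (G : Set R)) = ⊤)
    (hn : ∀ g ∈ G, ∃ u, ρ u = σ g * ρ t ^ n) :
    (∀ a, θ (σ a) ∈ ρ'.range) ↔ ∀ u ∈ secIdeal ρ σ (Ideal.span {t ^ n}), φ u ∈ Ideal.span {φ t ^ n} := by
  constructor
  · intro h u hu
    have key : ∀ z ∈ prodSpan ρ σ (Ideal.span {t ^ n}), ∃ d, d ∈ Ideal.span {φ t ^ n} ∧ ρ' d = θ z := by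
      intro z hz
      induction hz using AddSubgroup.closure_induction with
      | mem z hz =>
        obtain ⟨a, x, hx, rfl⟩ := hz
        obtain ⟨d, hd⟩ := h a
        refine ⟨d * φ x, Ideal.mul_mem_left _ _ ?_, ?_⟩
        · obtain ⟨c, rfl⟩ := Ideal.mem_span_singleton'.1 hx
          rw [map_mul, map_pow]
          exact Ideal.mul_mem_left _ _ (Ideal.mem_span_singleton_self _)
        · rw [map_mul, map_mul, hd, show θ (ρ x) = ρ' (φ x) from congr($hθ x)]
      | zero => exact ⟨0, zero_mem _, by rw [map_zero, map_zero]⟩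
      | add u v _ _ hu hv =>
        obtain ⟨d, hd, hdu⟩ := hu
        obtain ⟨d', hd', hdv⟩ := hv
        exact ⟨d + d', add_mem hd hd', by rw [map_add, map_add, hdu, hdv]⟩
      | neg u _ hu =>
        obtain ⟨d, hd, hdu⟩ := hu
        exact ⟨-d, neg_mem hd, by rw [map_neg, map_neg, hdu]⟩
    obtain ⟨d, hd, hdu⟩ := key _ hu
    rwa [← hinj (hdu.trans (congr($hθ u) : θ (ρ u) = ρ' (φ u)))]
  · intro h a
    suffices Subring.closure (Set.range ι ∪ (G : Set R)) ≤ ρ'.range.comap (θ.comp σ) from this (hG ▸ trivial)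
    rw [Subring.closure_le]
    rintro x (⟨c, rfl⟩ | hx)
    · exact ⟨φ c, by rw [RingHom.comp_apply, show σ (ι c) = ρ c from congr($hσι c)]; exact congr($hθ c).symm⟩
    · obtain ⟨u, hu⟩ := hn x hx
      have humem : u ∈ secIdeal ρ σ (Ideal.span {t ^ n}) := by
        rw [mem_secIdeal, hu, ← map_pow]
        exact mem_prodSpan _ _ _ _ (Ideal.mem_span_singleton_self _)
      obtain ⟨d, hd⟩ := Ideal.mem_span_singleton'.1 (h u humem)
      refine ⟨d, (hunit.pow n).mul_right_cancel ?_⟩
      rw [← map_pow, ← map_mul, hd, RingHom.comp_apply, map_pow,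
        show ρ' (φ u) = θ (ρ u) from congr($hθ u).symm, hu, map_mul, map_pow,
        show θ (ρ t) = ρ' (φ t) from congr($hθ t)]

end Groth.Agent.H26Ext
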