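import Groth.Agent.H26Ext.Alg
import Groth.Agent.H29Blow.Relative
import Groth.Agent.H7Flat.Flatten.NagataB
import Mathlib

/-!
# A divisor flat over the base stays effective Cartier after base change
-/

set_option autoImplicit false
set_option linter.style.haveILetI false
set_option backward.isDefEq.respectTransparency false
set_option backward.isDefEq.respectTransparency.types false

universe u

open CategoryTheory CategoryTheory.Limits AlgebraicGeometry TopologicalSpace

namespace Groth.Agent.H26Ext

variable {P S T : Scheme.{u}} (π : P ⟶ S) (t : T ⟶ S) {W : S.Opens} (hW : IsAffineOpen W)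
  {U : P.Opens} (hU : IsAffineOpen U) (hUW : U ≤ π ⁻¹ᵁ W) {V : T.Opens} (hV : IsAffineOpen V) (hVW : V ≤ t ⁻¹ᵁ W)

/-- The product of two affine opens over an affine open of the base. -/
noncomputable abbrev piece (U : P.Opens) (V : T.Opens) : (pullback π t).Opens := pullback.fst π t ⁻¹ᵁ U ⊓ pullback.snd π t ⁻¹ᵁ V

include hW hU hV hUW hVW in
theorem isAffineOpen_piece : IsAffineOpen (piece π t U V) := by
  haveI : IsAffine _ := hW
  haveI : IsAffine _ := hU
  haveI : IsAffine _ := hV
  exact .of_isIso (Scheme.Hom.isPullback_resLE (IsPullback.of_hasPullback π t) hVW hUW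
    (UY := piece π t U V) rfl).isoPullback.hom

include hW hU hV hUW hVW in
/-- A regular element with flat cokernel stays regular on a piece. -/
theorem mem_nonZeroDivisors_piece {a : Γ(P, U)} (ha : a ∈ nonZeroDivisors Γ(P, U))
    (hflat : ((Ideal.Quotient.mk (Ideal.span {a})).comp (π.appLE W U hUW).hom).Flat) :
    ((pullback.fst π t).appLE U (piece π t U V) inf_le_left).hom a ∈ nonZeroDivisors Γ(pullback π t, piece π t U V) := by
  let c := IsPullback.of_hasPullback π t
  let U' := piece π t U V
  have hp : CategoryTheory.IsPushout (π.appLE W U hUW) (t.appLE W V hVW)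
      ((pullback.fst π t).appLE U U' inf_le_left) ((pullback.snd π t).appLE V U' inf_le_right) :=
    (isIso_pushoutSection_iff c hVW hUW (UY := U') rfl).mp
      (isIso_pushoutSection_of_isAffineOpen c hVW hUW rfl hW hV hU)
  letI := (π.appLE W U hUW).hom.toAlgebra
  letI := (t.appLE W V hVW).hom.toAlgebra
  letI := ((pullback.fst π t).appLE U U' inf_le_left).hom.toAlgebra
  letI := ((pullback.snd π t).appLE V U' inf_le_right).hom.toAlgebra
  letI : Algebra Γ(S, W) Γ(pullback π t, U') :=
    (((pullback.fst π t).appLE U U' inf_le_left).hom.comp (π.appLE W U hUW).hom).toAlgebra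
  haveI : IsScalarTower Γ(S, W) Γ(P, U) Γ(pullback π t, U') := .of_algebraMap_eq fun _ => rfl
  haveI : IsScalarTower Γ(S, W) Γ(T, V) Γ(pullback π t, U') :=
    IsScalarTower.of_algebraMap_eq' (congrArg CommRingCat.Hom.hom hp.w)
  haveI : Algebra.IsPushout Γ(S, W) Γ(T, V) Γ(P, U) Γ(pullback π t, U') :=
    CommRingCat.isPushout_iff_isPushout.mp hp.flip
  haveI : Module.Flat Γ(S, W) (Γ(P, U) ⧸ Ideal.span {a}) := RingHom.flat_algebraMap_iff.1 (by
    convert hflat using 1
    rfl)
  exact mem_nonZeroDivisors_pushout (A := Γ(S, W)) (C := Γ(T, V)) ha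

variable {I : P.IdealSheafData}

/-- The inverse image of the divisor on a base change is effective Cartier. -/
theorem isEffCartierIdeal_comap_fst (hI : BlowUp.IsEffCartierIdeal I) [Flat (I.subschemeι ≫ π)] :
    BlowUp.IsEffCartierIdeal (I.comap (pullback.fst π t)) := by
  intro z
  obtain ⟨W, hW, hzW, -⟩ := exists_isAffineOpen_mem_and_subset (x := π (pullback.fst π t z)) (U := (⊤ : S.Opens)) trivial
  obtain ⟨U, hxU, hUW, a, ha, haU⟩ := H29Blow.exists_gen hI (x := pullback.fst π t z) (W := π ⁻¹ᵁ W) hzW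
  have hzW' : t (pullback.snd π t z) ∈ W := by
    rw [← Scheme.Hom.comp_apply, ← pullback.condition, Scheme.Hom.comp_apply]; exact hzW
  obtain ⟨V, hV, hzV, hVW⟩ := exists_isAffineOpen_mem_and_subset (x := pullback.snd π t z) (U := t ⁻¹ᵁ W) hzW'
  have hflat := H29Blow.flat_appLE_quot π I ⟨W, hW⟩ U hUW
  rw [haU] at hflat
  refine ⟨⟨piece π t U.1 V, isAffineOpen_piece π t hW U.2 hUW hV hVW⟩, ⟨hxU, hzV⟩,
    _, mem_nonZeroDivisors_piece π t hW U.2 hUW hV hVW ha hflat, ?_⟩
  rw [H29Blow.ideal_comap I (pullback.fst π t) U _ inf_le_left, haU, Ideal.map_span, Set.image_singleton]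

end Groth.Agent.H26Ext
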