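import Groth.Agent.H26Ext.Pieces
import Groth.Agent.H7Flat.Flatten.NagataC
import Groth.Agent.H18HTop.AlmostBlowUp
import Mathlib

/-!
# Gluing extensions of a section
-/

set_option autoImplicit false
set_option linter.style.haveILetI false
set_option backward.isDefEq.respectTransparency false
set_option backward.isDefEq.respectTransparency.types false

universe u

open CategoryTheory CategoryTheory.Limits AlgebraicGeometry TopologicalSpace

namespace Groth.Agent.H26Ext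

variable {P Y : Scheme.{u}} {I : P.IdealSheafData} {Q : P.Opens} {p : Y ⟶ P} (s : (Q : Scheme.{u}) ⟶ Y)

/-- `f` lifts `a'` and restricts to the section over the open. -/
def Sol (p : Y ⟶ P) {X : Scheme.{u}} (a' : X ⟶ P) (f : X ⟶ Y) : Prop :=
  f ≫ p = a' ∧ ∀ (Z : Scheme.{u}) (z : Z ⟶ X) (w : Z ⟶ (Q : Scheme.{u})), z ≫ a' = w ≫ Q.ι → z ≫ f = w ≫ s

variable {s}

theorem sol_iff {X : Scheme.{u}} (a' : X ⟶ P) (f : X ⟶ Y) :
    Sol s p a' f ↔ f ≫ p = a' ∧ (a' ⁻¹ᵁ Q).ι ≫ f = (a' ∣_ Q) ≫ s := by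
  refine and_congr_right fun _ => ⟨fun h => h _ _ _ (morphismRestrict_ι a' Q).symm, fun h Z z w hzw => ?_⟩
  have hrange : Set.range z ⊆ Set.range (a' ⁻¹ᵁ Q).ι := by
    rw [Scheme.Opens.range_ι]
    rintro _ ⟨y, rfl⟩
    show a' (z y) ∈ Q
    rw [← Scheme.Hom.comp_apply, hzw, Scheme.Hom.comp_apply]
    exact (w y).2
  obtain ⟨c, hc⟩ : ∃ c : Z ⟶ (a' ⁻¹ᵁ Q : X.Opens), c ≫ (a' ⁻¹ᵁ Q).ι = z :=
    ⟨IsOpenImmersion.lift _ z hrange, IsOpenImmersion.lift_fac _ _ _⟩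
  have hw : w = c ≫ (a' ∣_ Q) := by
    rw [← cancel_mono Q.ι, Category.assoc, morphismRestrict_ι, ← Category.assoc, hc, hzw]
  rw [hw, ← hc, Category.assoc, Category.assoc, h]

theorem Sol.comp {X X' : Scheme.{u}} {a' : X ⟶ P} {f : X ⟶ Y} (h : Sol s p a' f) (b : X' ⟶ X) :
    Sol s p (b ≫ a') (b ≫ f) :=
  ⟨by rw [Category.assoc, h.1], fun Z z w hzw => by
    rw [← Category.assoc]; exact h.2 Z (z ≫ b) w (by rw [Category.assoc]; exact hzw)⟩

variable [IsSeparated p]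

/-- Extensions are unique where the divisor stays Cartier. -/
theorem Sol.unique (hQ : Q = I.support.compl) {X : Scheme.{u}} {a' : X ⟶ P}
    (hX : BlowUp.IsEffCartierIdeal (I.comap a')) {f f' : X ⟶ Y} (h : Sol s p a' f) (h' : Sol s p a' f') :
    f = f' := by
  haveI := H7Flat.Flatten.schDominant_awayFrom hX
  refine H7Flat.Flatten.hom_ext_of_schDominant (HTop.awayFrom (I.comap a')).ι p f f' (h.1.trans h'.1.symm) ?_
  have hle : Set.range ((HTop.awayFrom (I.comap a')).ι ≫ a') ⊆ Set.range Q.ι := by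
    rw [Scheme.Opens.range_ι, hQ]
    rintro _ ⟨z, rfl⟩
    exact (H18HTop.awayFrom_comap a' I).le z.2
  have hw : (HTop.awayFrom (I.comap a')).ι ≫ a' = IsOpenImmersion.lift Q.ι _ hle ≫ Q.ι :=
    (IsOpenImmersion.lift_fac _ _ _).symm
  rw [h.2 _ _ _ hw, h'.2 _ _ _ hw]

/-- Extensions glue. -/
theorem exists_sol_of_cover (hQ : Q = I.support.compl) {X : Scheme.{u}} (a' : X ⟶ P)
    (hX : BlowUp.IsEffCartierIdeal (I.comap a')) (𝒰 : Scheme.OpenCover.{u} X)
    (h : ∀ i, ∃ f, Sol s p (𝒰.f i ≫ a') f) : ∃ f, Sol s p a' f := by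
  choose f hf using h
  have hcompat : ∀ i j, pullback.fst (𝒰.f i) (𝒰.f j) ≫ f i = pullback.snd _ _ ≫ f j := fun i j => by
    have h1 := (hf i).comp (pullback.fst (𝒰.f i) (𝒰.f j))
    have h2 := (hf j).comp (pullback.snd (𝒰.f i) (𝒰.f j))
    rw [← Category.assoc, ← pullback.condition, Category.assoc] at h2
    refine Sol.unique hQ ?_ h1 h2
    rw [← Category.assoc, Scheme.IdealSheafData.comap_comp]
    exact H29Blow.isEffCartierIdeal_comap_of_flat hX _
  refine ⟨Scheme.Cover.glueMorphisms 𝒰 f hcompat, ?_, fun Z z w hzw => ?_⟩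
  · refine Scheme.Cover.hom_ext 𝒰 _ _ fun i => ?_
    rw [Scheme.Cover.ι_glueMorphisms_assoc]
    exact (hf i).1
  · refine Scheme.Cover.hom_ext (𝒰.pullback₁ z) _ _ fun i => ?_
    show pullback.fst z (𝒰.f i) ≫ z ≫ _ = pullback.fst z (𝒰.f i) ≫ w ≫ s
    rw [pullback.condition_assoc, Scheme.Cover.ι_glueMorphisms, (hf i).2 _ _ (pullback.fst z (𝒰.f i) ≫ w) (by
      rw [Category.assoc, ← hzw, pullback.condition_assoc])]
    rw [Category.assoc]

end Groth.Agent.H26Ext
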