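import Groth.Agent.H26Ext.Dense
import Mathlib

/-!
# The ideal of numerators of a section over the complement of a divisor
-/

set_option autoImplicit false
set_option linter.style.haveILetI false
set_option backward.isDefEq.respectTransparency false
set_option backward.isDefEq.respectTransparency.types false

universe u

open CategoryTheory CategoryTheory.Limits AlgebraicGeometry TopologicalSpace

namespace Groth.Agent.H26Ext

variable {P Y : Scheme.{u}} {p : Y ⟶ P} {Q : P.Opens} {s : (Q : Scheme.{u}) ⟶ Y} (hs : s ≫ p = Q.ι)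

include hs in
theorem preimage_le (U : P.Opens) : Q.ι ⁻¹ᵁ U ≤ s ⁻¹ᵁ (p ⁻¹ᵁ U) := by
  rw [← Scheme.Hom.comp_preimage, hs]

/-- The values of the section on functions. -/
abbrev secVal (U : P.Opens) : Γ(Y, p ⁻¹ᵁ U) ⟶ Γ(Q, Q.ι ⁻¹ᵁ U) :=
  s.appLE (p ⁻¹ᵁ U) (Q.ι ⁻¹ᵁ U) (preimage_le hs U)

theorem secVal_comp (U : P.Opens) : p.app U ≫ secVal hs U = Q.ι.app U := by
  rw [secVal, p.app_eq_appLE, Scheme.Hom.appLE_comp_appLE, Q.ι.app_eq_appLE]
  congr 1

variable [IsAffineHom p]

theorem isAffineOpen_preimage_ι [IsAffineHom Q.ι] {U : P.Opens} (hU : IsAffineOpen U) :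
    IsAffineOpen (Q.ι ⁻¹ᵁ U) :=
  hU.preimage Q.ι

/-- The numerators of the section. -/
noncomputable def secIdealSheaf [IsAffineHom Q.ι] (K : P.IdealSheafData) : P.IdealSheafData where
  ideal U := secIdeal (Q.ι.app U.1).hom (secVal hs U.1).hom (K.ideal U)
  map_ideal_basicOpen U r := by
    let U' := P.affineBasicOpen r
    have hle : U'.1 ≤ U.1 := P.basicOpen_le r
    let res := P.presheaf.map (homOfLE hle).op
    let q := (Q : Scheme.{u}).presheaf.map (homOfLE (Q.ι.preimage_mono hle)).op
    let a := Y.presheaf.map (homOfLE (p.preimage_mono hle)).op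
    have hρ : q.hom.comp (Q.ι.app U.1).hom = (Q.ι.app U'.1).hom.comp res.hom := by
      rw [← CommRingCat.hom_comp, ← CommRingCat.hom_comp]
      exact congrArg CommRingCat.Hom.hom (Q.ι.naturality (homOfLE hle).op).symm
    have hσ : q.hom.comp (secVal hs U.1).hom = (secVal hs U'.1).hom.comp a.hom := by
      rw [← CommRingCat.hom_comp, ← CommRingCat.hom_comp]
      exact congrArg CommRingCat.Hom.hom ((s.appLE_map (preimage_le hs U.1) _).trans
        (s.map_appLE (preimage_le hs U'.1) _).symm)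
    have hB : letI := res.hom.toAlgebra; IsLocalization.Away r Γ(P, U'.1) := U.2.isLocalization_basicOpen r
    have hQ : letI := q.hom.toAlgebra; IsLocalization.Away (Q.ι.app U.1 r) Γ(Q, Q.ι ⁻¹ᵁ U'.1) :=
      (isAffineOpen_preimage_ι U.2).isLocalization_of_eq_basicOpen (Q.ι.app U.1 r)
        (homOfLE (Q.ι.preimage_mono hle)) (Scheme.preimage_basicOpen Q.ι r)
    have hR : letI := a.hom.toAlgebra; IsLocalization.Away (p.app U.1 r) Γ(Y, p ⁻¹ᵁ U'.1) :=
      (U.2.preimage p).isLocalization_of_eq_basicOpen (p.app U.1 r)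
        (homOfLE (p.preimage_mono hle)) (Scheme.preimage_basicOpen p r)
    have key := map_secIdeal (Q.ι.app U.1).hom (secVal hs U.1).hom (K.ideal U) (Q.ι.app U'.1).hom
      (secVal hs U'.1).hom res.hom q.hom a.hom hρ hσ r (p.app U.1 r)
      (congr($(secVal_comp hs U.1) r)) hB hQ hR
    refine key.trans ?_
    rw [show (K.ideal U).map res.hom = K.ideal U' from K.map_ideal_basicOpen U r]

theorem secIdealSheaf_ideal [IsAffineHom Q.ι] (K : P.IdealSheafData) (U : P.affineOpens) :
    (secIdealSheaf hs K).ideal U = secIdeal (Q.ι.app U.1).hom (secVal hs U.1).hom (K.ideal U) := rfl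

end Groth.Agent.H26Ext
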