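import Groth.Agent.H26Ext.Glue
import Groth.Agent.H26Van.Main
import Mathlib

/-!
# The locus where a section extends, over an affine open of the base
-/

set_option autoImplicit false
set_option linter.style.haveILetI false
set_option backward.isDefEq.respectTransparency false
set_option backward.isDefEq.respectTransparency.types false

universe u

open CategoryTheory CategoryTheory.Limits AlgebraicGeometry TopologicalSpace

namespace Groth.Agent.H26Ext

variable {P S Y : Scheme.{u}} (π : P ⟶ S) {I : P.IdealSheafData} {Q : P.Opens} {p : Y ⟶ P} [IsAffineHom p]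
  {s : (Q : Scheme.{u}) ⟶ Y} (hs : s ≫ p = Q.ι)

/-- Finitely many generators of the functions over an affine open. -/
theorem exists_finset_closure [LocallyOfFinitePresentation p] (U : P.affineOpens) :
    ∃ G : Finset Γ(Y, p ⁻¹ᵁ U.1), Subring.closure (Set.range (p.app U.1).hom ∪ (G : Set Γ(Y, p ⁻¹ᵁ U.1))) = ⊤ := by
  have h : (p.app U.1).hom.FinitePresentation := by
    rw [p.app_eq_appLE]; exact p.finitePresentation_appLE U.2 (U.2.preimage p) le_rfl
  letI := (p.app U.1).hom.toAlgebra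
  obtain ⟨G, hG⟩ := (RingHom.FiniteType.of_finitePresentation h : Algebra.FiniteType Γ(P, U.1) Γ(Y, p ⁻¹ᵁ U.1)).out
  refine ⟨G, ?_⟩
  have := congrArg Subalgebra.toSubring hG
  rwa [Algebra.adjoin_eq_ring_closure] at this

set_option maxHeartbeats 1600000 in
include hs in
/-- The extension locus over an affine open of the base. -/
theorem exists_affine [IsProper π] [LocallyOfFinitePresentation π] [LocallyOfFinitePresentation p]
    (hI : BlowUp.IsEffCartierIdeal I) [Flat (I.subschemeι ≫ π)] (hQ : Q = I.support.compl) (W : S.affineOpens) :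
    ∃ J : Ideal Γ(S, W.1), ∀ (C : CommRingCat.{u}) (φ : Γ(S, W.1) ⟶ C),
      (∃ f, Sol s p (pullback.fst π (Spec.map φ ≫ W.2.fromSpec)) f) ↔ J ≤ RingHom.ker φ.hom := by
  classical
  haveI : IsAffineHom Q.ι := isAffineHom_ι hI hQ
  choose U hxU hUW a hreg haU using fun x : {x : P // x ∈ π ⁻¹ᵁ W.1} =>
    H29Blow.exists_gen hI (x := x.1) (W := π ⁻¹ᵁ W.1) x.2
  have hcpt : IsCompact (π ⁻¹ᵁ W.1 : Set P) := π.isCompact_preimage W.2.isCompact
  obtain ⟨t, ht⟩ := hcpt.elim_finite_subcover (fun x => ((U x).1 : Set P)) (fun x => (U x).1.2)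
    (fun x hx => Set.mem_iUnion.2 ⟨⟨x, hx⟩, hxU ⟨x, hx⟩⟩)
  choose G hG using exists_finset_closure (p := p)
  choose n hn using fun x => exists_bound hs hQ (haU x) (G (U x))
  let m := t.sup n + 1
  let K := I ^ m
  have hKU : ∀ (V : P.affineOpens) (b : Γ(P, V.1)), I.ideal V = Ideal.span {b} → K.ideal V = Ideal.span {b ^ m} :=
    fun V b hb => by rw [Scheme.IdealSheafData.ideal_pow, Pi.pow_apply, hb, Ideal.span_singleton_pow]
  obtain ⟨-, hKflat⟩ := flat_pow_succ π hI (t.sup n)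
  let J := secIdealSheaf hs K
  have hFP : CohB1.IsFP (ClSub.quotMod K) := isFP_quotMod K fun x => by
    obtain ⟨V, hxV, b, -, hb⟩ := hI x
    exact ⟨V, hxV, hKU V b hb ▸ ⟨{b ^ m}, by simp⟩⟩
  haveI : Flat (K.subschemeι ≫ π) := hKflat
  obtain ⟨L, hL⟩ := H26Van.exists_affine π (ClSub.idealModι J ≫ ClSub.toSubscheme K)
    (H17.OmegaLocal.isQuasicoherent_idealMod J) hFP (isFlatOver_quotMod π K) W
  refine ⟨L, fun C φ => Iff.trans ?_ (hL C φ)⟩
  let g := Spec.map φ ≫ W.2.fromSpec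
  let a' := pullback.fst π g
  have hgW : (⊤ : (Spec C).Opens) ≤ g ⁻¹ᵁ W.1 := fun x _ => W.2.range_fromSpec.le ⟨Spec.map φ x, rfl⟩
  let U' : t → (pullback π g).affineOpens := fun i =>
    ⟨piece π g (U i.1).1 ⊤, isAffineOpen_piece π g W.2 (U i.1).2 (hUW i.1) (isAffineOpen_top _) hgW⟩
  have e : ∀ i : t, (U' i).1 ≤ a' ⁻¹ᵁ (U i.1).1 := fun i => inf_le_left
  have hcov : ∀ x : (pullback π g : Scheme.{u}), ∃ i : t, x ∈ (U' i).1 := fun x => by
    have hx : a' x ∈ π ⁻¹ᵁ W.1 := by
      show π (a' x) ∈ W.1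
      rw [← Scheme.Hom.comp_apply, pullback.condition, Scheme.Hom.comp_apply]
      exact hgW trivial
    obtain ⟨i, hi, hxi⟩ := Set.mem_iUnion₂.1 (ht hx)
    exact ⟨⟨i, hi⟩, hxi, trivial⟩
  have hinj : ∀ i : t, Function.Injective (resQ (Q := Q) a' (U' := U' i)) ∧
      IsUnit (resQ (Q := Q) a' (U' := U' i) (a'.appLE (U i.1).1 (U' i).1 (e i) (a i.1))) := fun i => by
    have hflat := H29Blow.flat_appLE_quot π I W (U i.1) (hUW i.1)
    rw [haU i.1] at hflat
    exact resQ_injective a' (e i) hQ (haU i.1)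
      (mem_nonZeroDivisors_piece π g W.2 (U i.1).2 (hUW i.1) (isAffineOpen_top _) hgW (hreg i.1) hflat)
  have hcrit : ∀ i : t, H26Van.Van (ClSub.idealModι J ≫ ClSub.toSubscheme K) ((U' i).2.fromSpec ≫ a') ↔
      Ext hs a' (U i.1) (U' i) (e i) := fun i => by
    rw [← (U i.1).2.SpecMap_appLE_fromSpec a' (U' i).2 (e i)]
    refine Iff.trans (van_ideal_iff J K (U i.1).2 _) (Iff.trans ?_ (range_le_iff_forall_mem_span
      (Q.ι.app (U i.1).1).hom (secVal hs (U i.1).1).hom (p.app (U i.1).1).hom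
      (congrArg CommRingCat.Hom.hom (secVal_comp hs (U i.1).1)) (a'.appLE (U i.1).1 (U' i).1 (e i)).hom
      (pullQ a' (e i)).hom (resQ (Q := Q) a' (U' := U' i)).hom
      (congrArg CommRingCat.Hom.hom (app_pullQ a' (e i))) (hinj i).1 (a i.1) m (hinj i).2 (G (U i.1)) (hG _)
      (fun γ hγ => hn i.1 m (by show n i.1 ≤ t.sup n + 1; exact (Finset.le_sup i.2).trans (Nat.le_succ _)) γ hγ)).symm)
    rw [secIdealSheaf_ideal, hKU (U i.1) (a i.1) (haU i.1), Ideal.map_span, Set.image_singleton, map_pow]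
  have hX : BlowUp.IsEffCartierIdeal (I.comap a') := isEffCartierIdeal_comap_fst π g hI
  constructor
  · rintro ⟨f, hf⟩
    refine H26Van.van_of_cover a' (fun i : t => Spec Γ(pullback π g, (U' i).1)) (fun i => (U' i).2.fromSpec)
      (fun i => inferInstance) (fun x => ?_) fun i => ?_
    · obtain ⟨i, hi⟩ := hcov x
      exact ⟨i, (U' i).2.range_fromSpec.ge hi⟩
    · exact (hcrit i).2 (ext_of_exists hs a' (e i) ((sol_iff a' f).1 hf).1 ((sol_iff a' f).1 hf).2)
  · intro hv
    let 𝒰 : Scheme.OpenCover.{u} (pullback π g) :=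
      Scheme.Cover.mkOfCovers t (fun i => Spec Γ(pullback π g, (U' i).1)) (fun i => (U' i).2.fromSpec)
        (fun x => by
          obtain ⟨i, hi⟩ := hcov x
          obtain ⟨y, hy⟩ := (U' i).2.range_fromSpec.ge hi
          exact ⟨i, y, hy⟩) (fun i => inferInstance)
    refine exists_sol_of_cover hQ a' hX 𝒰 fun i => ?_
    obtain ⟨f, hf⟩ := exists_local hs a' (e i) ((hcrit i).1 (hv.comp _)) (hinj i).1
    exact ⟨f, hf⟩

end Groth.Agent.H26Ext
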