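import Groth.Agent.H26Ext.Local
import Mathlib

/-!
# The closed subscheme where a section extends
-/

set_option autoImplicit false
set_option linter.style.haveILetI false
set_option backward.isDefEq.respectTransparency false
set_option backward.isDefEq.respectTransparency.types false

universe u

open CategoryTheory CategoryTheory.Limits AlgebraicGeometry TopologicalSpace

namespace Groth.Agent.H26Ext

variable {P S Y : Scheme.{u}} (π : P ⟶ S) {I : P.IdealSheafData} {Q : P.Opens} {p : Y ⟶ P} [IsAffineHom p]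
  {s : (Q : Scheme.{u}) ⟶ Y}

/-- Extensions restrict along a change of base. -/
theorem exists_sol_base_comp {T T' : Scheme.{u}} (g : T ⟶ S) (b : T' ⟶ T)
    (h : ∃ f, Sol s p (pullback.fst π g) f) : ∃ f, Sol s p (pullback.fst π (b ≫ g)) f := by
  obtain ⟨f, hf⟩ := h
  let l : pullback π (b ≫ g) ⟶ pullback π g := pullback.lift (pullback.fst _ _) (pullback.snd _ _ ≫ b)
    (by rw [pullback.condition, Category.assoc])
  refine ⟨l ≫ f, ?_⟩
  have := hf.comp l
  rwa [show l ≫ pullback.fst π g = pullback.fst π (b ≫ g) from pullback.lift_fst _ _ _] at this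

/-- Extensions glue along an open cover of the base. -/
theorem exists_sol_base_of_cover (hI : BlowUp.IsEffCartierIdeal I) [Flat (I.subschemeι ≫ π)]
    (hQ : Q = I.support.compl) {T : Scheme.{u}} (g : T ⟶ S) (𝒱 : Scheme.OpenCover.{u} T)
    (h : ∀ i, ∃ f, Sol s p (pullback.fst π (𝒱.f i ≫ g)) f) : ∃ f, Sol s p (pullback.fst π g) f := by
  refine exists_sol_of_cover hQ _ (isEffCartierIdeal_comap_fst π g hI) (𝒱.pullback₁ (pullback.snd π g)) fun i => ?_
  obtain ⟨f, hf⟩ := h i
  let l : pullback (pullback.snd π g) (𝒱.f i) ⟶ pullback π (𝒱.f i ≫ g) :=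
    pullback.lift (pullback.fst _ _ ≫ pullback.fst π g) (pullback.snd _ _)
      (by rw [Category.assoc, pullback.condition, ← Category.assoc, pullback.condition, Category.assoc])
  refine ⟨l ≫ f, ?_⟩
  have := hf.comp l
  rwa [show l ≫ pullback.fst π (𝒱.f i ≫ g) = (𝒱.pullback₁ (pullback.snd π g)).f i ≫ pullback.fst π g from
    pullback.lift_fst _ _ _] at this

/-- The closed subscheme where the section extends. -/
theorem exists_locus [IsProper π] [LocallyOfFinitePresentation π] [LocallyOfFinitePresentation p]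
    (hs : s ≫ p = Q.ι) (hI : BlowUp.IsEffCartierIdeal I) [Flat (I.subschemeι ≫ π)] (hQ : Q = I.support.compl) :
    ∃ K : S.IdealSheafData, ∀ (T : Scheme.{u}) (g : T ⟶ S),
      (∃ h : T ⟶ K.subscheme, h ≫ K.subschemeι = g) ↔ ∃ f, Sol s p (pullback.fst π g) f := by
  choose Iw hIw using exists_affine π hs hI hQ
  have hglob : ∀ (T : Scheme.{u}) (g : T ⟶ S),
      (∃ f, Sol s p (pullback.fst π g) f) ↔
        ∀ (W : S.affineOpens) (V : T.affineOpens) (h : V.1 ≤ g ⁻¹ᵁ W.1), Iw W ≤ RingHom.ker (g.appLE W.1 V.1 h).hom := by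
    intro T g
    constructor
    · intro hv W V h
      refine (hIw W _ _).1 ?_
      rw [W.2.SpecMap_appLE_fromSpec g V.2 h]
      exact exists_sol_base_comp π g _ hv
    · intro hv
      have hex : ∀ x : T, ∃ (W : S.affineOpens) (V : T.affineOpens), x ∈ V.1 ∧ V.1 ≤ g ⁻¹ᵁ W.1 := fun x => by
        obtain ⟨W, hW, hxW, -⟩ := exists_isAffineOpen_mem_and_subset (x := g x) (U := (⊤ : S.Opens)) trivial
        obtain ⟨V, hV, hxV, hVW⟩ := exists_isAffineOpen_mem_and_subset (x := x) (U := g ⁻¹ᵁ W) hxW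
        exact ⟨⟨W, hW⟩, ⟨V, hV⟩, hxV, hVW⟩
      choose W V hxV hVW using hex
      let 𝒱 : Scheme.OpenCover.{u} T :=
        Scheme.Cover.mkOfCovers T (fun x => Spec Γ(T, (V x).1)) (fun x => (V x).2.fromSpec)
          (fun x => by obtain ⟨y, hy⟩ := (V x).2.range_fromSpec.ge (hxV x); exact ⟨x, y, hy⟩) (fun x => inferInstance)
      refine exists_sol_base_of_cover π hI hQ g 𝒱 fun x => ?_
      show ∃ f, Sol s p (pullback.fst π ((V x).2.fromSpec ≫ g)) f
      rw [← (W x).2.SpecMap_appLE_fromSpec g (V x).2 (hVW x)]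
      exact (hIw _ _ _).2 (hv _ _ (hVW x))
  let K : S.IdealSheafData :=
    { ideal := Iw
      map_ideal_basicOpen := fun W r => by
        let W' := S.affineBasicOpen r
        let res := S.presheaf.map (homOfLE (S.basicOpen_le r)).op
        have hres : Spec.map res ≫ W.2.fromSpec = W'.2.fromSpec :=
          W.2.map_fromSpec W'.2 (homOfLE (S.basicOpen_le r)).op
        have key : ∀ J : Ideal Γ(S, W'.1), (Iw W).map res.hom ≤ J ↔ Iw W' ≤ J := by
          intro J
          let q' : Γ(S, W'.1) ⟶ CommRingCat.of (Γ(S, W'.1) ⧸ J) := CommRingCat.ofHom (Ideal.Quotient.mk J)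
          have hq : RingHom.ker q'.hom = J := Ideal.mk_ker
          have h1 := hIw W' _ q'
          have h2 := hIw W _ (res ≫ q')
          rw [Spec.map_comp, Category.assoc, hres, h1, hq, CommRingCat.hom_comp, ← RingHom.comap_ker, hq,
            ← Ideal.map_le_iff_le_comap] at h2
          exact h2.symm
        exact le_antisymm ((key _).mpr le_rfl) ((key _).mp le_rfl) }
  refine ⟨K, fun T f => ?_⟩
  rw [hglob]
  constructor
  · rintro ⟨g, hg⟩ W V hVW y hy
    have hle : K ≤ f.ker := by
      rw [← hg]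
      exact le_of_eq_of_le K.ker_subschemeι.symm (Scheme.Hom.le_ker_comp _ _)
    have := f.ideal_ker_le W (hle W hy)
    rw [RingHom.mem_ker] at this ⊢
    rw [Scheme.Hom.appLE, CommRingCat.hom_comp, RingHom.comp_apply, this, map_zero]
  · intro h
    refine ⟨IsClosedImmersion.lift K.subschemeι f ?_, IsClosedImmersion.lift_fac _ _ _⟩
    rw [Scheme.IdealSheafData.ker_subschemeι]
    exact H19Grp.le_ker_of_forall_appLE _ _ fun W V hVW => h W V hVW

end Groth.Agent.H26Ext
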