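import Groth.Agent.H26Ext.Quot
import Mathlib

/-!
# Extending a section over a piece of a base change
-/

set_option autoImplicit false
set_option linter.style.haveILetI false
set_option backward.isDefEq.respectTransparency false
set_option backward.isDefEq.respectTransparency.types false

universe u

open CategoryTheory CategoryTheory.Limits AlgebraicGeometry TopologicalSpace

namespace Groth.Agent.H26Ext

variable {P Y : Scheme.{u}} {I : P.IdealSheafData} {Q : P.Opens}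

theorem basicOpen_eq (hQ : Q = I.support.compl) {U : P.affineOpens} {a : Γ(P, U.1)}
    (ha : I.ideal U = Ideal.span {a}) : P.basicOpen a = U.1 ⊓ Q := by
  refine Opens.ext (Set.ext fun y => ?_)
  constructor
  · intro hy
    exact ⟨P.basicOpen_le a hy, hQ ▸ H29Blow.basicOpen_disjoint_support (ha ▸ Ideal.mem_span_singleton_self a) hy⟩
  · rintro ⟨hyU, hyQ⟩
    by_contra hy
    rw [hQ] at hyQ
    refine hyQ ?_
    show y ∈ I.support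
    rw [Scheme.IdealSheafData.mem_support_iff_of_mem (U := U) hyU, ha, Scheme.zeroLocus_span,
      Scheme.mem_zeroLocus_iff]
    rintro f (rfl : f = a)
    exact hy

theorem preimage_ι_eq_basicOpen (hQ : Q = I.support.compl) {U : P.affineOpens} {a : Γ(P, U.1)}
    (ha : I.ideal U = Ideal.span {a}) : Q.ι ''ᵁ (Q.ι ⁻¹ᵁ U.1) = P.basicOpen a := by
  rw [Scheme.Hom.image_preimage_eq_opensRange_inf, Scheme.Opens.opensRange_ι, inf_comm, ← basicOpen_eq hQ ha]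

theorem isLocalization_ι (hQ : Q = I.support.compl) {U : P.affineOpens} {a : Γ(P, U.1)}
    (ha : I.ideal U = Ideal.span {a}) :
    letI := (Q.ι.app U.1).hom.toAlgebra
    IsLocalization.Away a Γ(Q, Q.ι ⁻¹ᵁ U.1) := by
  have hle : Q.ι ''ᵁ (Q.ι ⁻¹ᵁ U.1) ≤ U.1 := by rw [preimage_ι_eq_basicOpen hQ ha]; exact P.basicOpen_le a
  exact U.2.isLocalization_of_eq_basicOpen a (homOfLE hle) (preimage_ι_eq_basicOpen hQ ha)

/-- The complement of an effective Cartier divisor is affine over the ambient scheme. -/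
theorem isAffineHom_ι (hI : BlowUp.IsEffCartierIdeal I) (hQ : Q = I.support.compl) : IsAffineHom Q.ι := by
  refine isAffineHom_of_forall_exists_isAffineOpen _ fun x => ?_
  obtain ⟨U, hxU, a, -, ha⟩ := hI x
  refine ⟨U.1, hxU, U.2, ?_⟩
  rw [← Q.ι.isAffineOpen_iff_of_isOpenImmersion, preimage_ι_eq_basicOpen hQ ha]
  exact U.2.basicOpen a

/-- A morphism on an open, through the functions on it. -/
theorem ι_comp_eq {X' Y' : Scheme.{u}} (f : X' ⟶ Y') {U : Y'.Opens} (hU : IsAffineOpen U) {O : X'.Opens}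
    (e : O ≤ f ⁻¹ᵁ U) : O.ι ≫ f = O.toSpecΓ ≫ Spec.map (f.appLE U O e) ≫ hU.fromSpec := by
  rw [Scheme.Opens.toSpecΓ_SpecMap_appLE_assoc, hU.toSpecΓ_fromSpec, Scheme.Hom.resLE_comp_ι]

variable {p : Y ⟶ P} [IsAffineHom p] {s : (Q : Scheme.{u}) ⟶ Y} (hs : s ≫ p = Q.ι)

omit [IsAffineHom p] in
/-- The numerators of finitely many functions. -/
theorem exists_bound (hQ : Q = I.support.compl) {U : P.affineOpens} {a : Γ(P, U.1)}
    (ha : I.ideal U = Ideal.span {a}) (G : Finset Γ(Y, p ⁻¹ᵁ U.1)) :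
    ∃ n : ℕ, ∀ m ≥ n, ∀ g ∈ G, ∃ u, Q.ι.app U.1 u = secVal hs U.1 g * Q.ι.app U.1 a ^ m := by
  classical
  letI := (Q.ι.app U.1).hom.toAlgebra
  haveI := isLocalization_ι hQ ha
  choose k u hu using fun g => IsLocalization.Away.surj a (secVal hs U.1 g)
  refine ⟨G.sup k, fun m hm g hg => ⟨u g * a ^ (m - k g), ?_⟩⟩
  have hkm : k g ≤ m := (Finset.le_sup hg).trans hm
  rw [map_mul, map_pow, show Q.ι.app U.1 (u g) = secVal hs U.1 g * Q.ι.app U.1 a ^ k g from (hu g).symm, mul_assoc,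
    ← pow_add, Nat.add_sub_cancel' hkm]

variable {X : Scheme.{u}} (a' : X ⟶ P) {U : P.affineOpens} {U' : X.affineOpens} (e : U'.1 ≤ a' ⁻¹ᵁ U.1)

/-- The restriction to the open complement. -/
abbrev resQ : Γ(X, U'.1) ⟶ Γ((a' ⁻¹ᵁ Q : X.Opens), (a' ⁻¹ᵁ Q).ι ⁻¹ᵁ U'.1) := (a' ⁻¹ᵁ Q).ι.app U'.1

include e in
theorem le_restrict : (a' ⁻¹ᵁ Q).ι ⁻¹ᵁ U'.1 ≤ (a' ∣_ Q) ⁻¹ᵁ (Q.ι ⁻¹ᵁ U.1) := by
  rw [← Scheme.Hom.comp_preimage, morphismRestrict_ι, Scheme.Hom.comp_preimage]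
  exact (a' ⁻¹ᵁ Q).ι.preimage_mono e

/-- The map between the functions on the complements. -/
noncomputable abbrev pullQ : Γ(Q, Q.ι ⁻¹ᵁ U.1) ⟶ Γ((a' ⁻¹ᵁ Q : X.Opens), (a' ⁻¹ᵁ Q).ι ⁻¹ᵁ U'.1) :=
  (a' ∣_ Q).appLE _ _ (le_restrict a' e)

theorem app_pullQ : Q.ι.app U.1 ≫ pullQ a' e = a'.appLE U.1 U'.1 e ≫ resQ a' := by
  rw [pullQ, resQ, Q.ι.app_eq_appLE, (a' ⁻¹ᵁ Q).ι.app_eq_appLE, Scheme.Hom.appLE_comp_appLE,
    Scheme.Hom.appLE_comp_appLE]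
  simp [morphismRestrict_ι]

theorem resQ_injective (hQ : Q = I.support.compl) {a : Γ(P, U.1)} (ha : I.ideal U = Ideal.span {a})
    (hreg : (a'.appLE U.1 U'.1 e).hom a ∈ nonZeroDivisors Γ(X, U'.1)) :
    Function.Injective (resQ (Q := Q) a' (U' := U')) ∧ IsUnit (resQ (Q := Q) a' (U' := U') (a'.appLE U.1 U'.1 e a)) := by
  have hid : (I.comap a').ideal U' = Ideal.span {(a'.appLE U.1 U'.1 e).hom a} := by
    rw [H29Blow.ideal_comap I a' U U' e, ha, Ideal.map_span, Set.image_singleton]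
  have hQ' : a' ⁻¹ᵁ Q = (I.comap a').support.compl := by
    refine Opens.ext (Set.ext fun x => ?_)
    rw [Scheme.IdealSheafData.support_comap, hQ]
    exact Iff.rfl
  letI := (resQ (Q := Q) a' (U' := U')).hom.toAlgebra
  haveI := isLocalization_ι hQ' hid
  exact ⟨IsLocalization.injective _ (Submonoid.powers_le.mpr hreg), IsLocalization.Away.algebraMap_isUnit _⟩

/-- The values extend over the piece. -/
def Ext (U : P.affineOpens) (U' : X.affineOpens) (e : U'.1 ≤ a' ⁻¹ᵁ U.1) : Prop :=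
  ∀ r, (pullQ a' e) (secVal hs U.1 r) ∈ (resQ (Q := Q) a' (U' := U')).hom.range

theorem ext_of_exists {f : X ⟶ Y} (hf : f ≫ p = a') (hfs : (a' ⁻¹ᵁ Q).ι ≫ f = (a' ∣_ Q) ≫ s) :
    Ext hs a' U U' e := by
  intro r
  have h0 : U'.1 ≤ f ⁻¹ᵁ (p ⁻¹ᵁ U.1) := by rw [← Scheme.Hom.comp_preimage, hf]; exact e
  refine ⟨(f.appLE _ _ h0) r, ?_⟩
  show (f.appLE _ _ h0 ≫ (a' ⁻¹ᵁ Q).ι.app U'.1) r = (secVal hs U.1 ≫ pullQ a' e) r
  rw [(a' ⁻¹ᵁ Q).ι.app_eq_appLE, Scheme.Hom.appLE_comp_appLE, secVal, pullQ, Scheme.Hom.appLE_comp_appLE]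
  simp [hfs]

/-- The extension over a piece, as a morphism. -/
theorem exists_local (h : Ext hs a' U U' e) (hinj : Function.Injective (resQ (Q := Q) a' (U' := U'))) :
    ∃ m : Spec Γ(X, U'.1) ⟶ Y, m ≫ p = U'.2.fromSpec ≫ a' ∧
      ∀ (Z : Scheme.{u}) (z : Z ⟶ Spec Γ(X, U'.1)) (w : Z ⟶ (Q : Scheme.{u})),
        z ≫ U'.2.fromSpec ≫ a' = w ≫ Q.ι → z ≫ m = w ≫ s := by
  let θσ := (secVal hs U.1 ≫ pullQ a' e).hom
  let E := RingEquiv.ofBijective (resQ (Q := Q) a' (U' := U')).hom.rangeRestrict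
    ⟨fun x y hxy => hinj (congrArg Subtype.val hxy), RingHom.rangeRestrict_surjective _⟩
  let ψ : Γ(Y, p ⁻¹ᵁ U.1) ⟶ Γ(X, U'.1) := CommRingCat.ofHom (E.symm.toRingHom.comp (θσ.codRestrict _ h))
  have hψ : ψ ≫ resQ a' = secVal hs U.1 ≫ pullQ a' e := by
    ext r
    exact congrArg Subtype.val (E.apply_symm_apply ⟨θσ r, h r⟩)
  have hpψ : p.app U.1 ≫ ψ = a'.appLE U.1 U'.1 e := by
    ext c
    refine hinj ?_
    show (p.app U.1 ≫ ψ ≫ resQ (Q := Q) a') c = _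
    rw [hψ, ← Category.assoc, secVal_comp, app_pullQ a' e]
    rfl
  refine ⟨Spec.map ψ ≫ (U.2.preimage p).fromSpec, ?_, fun Z z w hzw => ?_⟩
  · rw [Category.assoc, ← (U.2).SpecMap_appLE_fromSpec p (U.2.preimage p) le_rfl,
      ← U.2.SpecMap_appLE_fromSpec a' U'.2 e, ← Spec.map_comp_assoc]
    congr 2
    rw [← hpψ, p.app_eq_appLE]
  · have hrange : Set.range (z ≫ U'.2.fromSpec) ⊆ Set.range (a' ⁻¹ᵁ Q).ι := by
      rw [Scheme.Opens.range_ι]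
      rintro _ ⟨y, rfl⟩
      show a' ((z ≫ U'.2.fromSpec) y) ∈ Q
      rw [← Scheme.Hom.comp_apply, Category.assoc, hzw, Scheme.Hom.comp_apply]
      exact (w y).2
    obtain ⟨c, hc⟩ : ∃ c : Z ⟶ (a' ⁻¹ᵁ Q : X.Opens), c ≫ (a' ⁻¹ᵁ Q).ι = z ≫ U'.2.fromSpec :=
      ⟨IsOpenImmersion.lift (a' ⁻¹ᵁ Q).ι (z ≫ U'.2.fromSpec) hrange, IsOpenImmersion.lift_fac _ _ _⟩
    have hw : w = c ≫ (a' ∣_ Q) := by
      rw [← cancel_mono Q.ι, Category.assoc, morphismRestrict_ι, ← Category.assoc, hc, Category.assoc, hzw]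
    obtain ⟨d, hd⟩ : ∃ d : Z ⟶ ((a' ⁻¹ᵁ Q).ι ⁻¹ᵁ U'.1 : Scheme.Opens _), d ≫ Scheme.Opens.ι _ = c := by
      refine ⟨IsOpenImmersion.lift ((a' ⁻¹ᵁ Q).ι ⁻¹ᵁ U'.1).ι c ?_, IsOpenImmersion.lift_fac _ _ _⟩
      rw [Scheme.Opens.range_ι]
      rintro _ ⟨y, rfl⟩
      show (a' ⁻¹ᵁ Q).ι (c y) ∈ U'.1
      rw [← Scheme.Hom.comp_apply, hc, Scheme.Hom.comp_apply]
      exact U'.2.range_fromSpec.le ⟨_, rfl⟩
    have h1 : ((a' ⁻¹ᵁ Q).ι ⁻¹ᵁ U'.1).ι ≫ (a' ⁻¹ᵁ Q).ι = ((a' ⁻¹ᵁ Q).ι ⁻¹ᵁ U'.1).toSpecΓ ≫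
        Spec.map (resQ (Q := Q) a' (U' := U')) ≫ U'.2.fromSpec := by
      rw [resQ, Scheme.Hom.app_eq_appLE]
      exact ι_comp_eq _ U'.2 _
    have h2 : ((a' ⁻¹ᵁ Q).ι ⁻¹ᵁ U'.1).ι ≫ (a' ∣_ Q) ≫ s = ((a' ⁻¹ᵁ Q).ι ⁻¹ᵁ U'.1).toSpecΓ ≫
        Spec.map (secVal hs U.1 ≫ pullQ a' e) ≫ (U.2.preimage p).fromSpec := by
      rw [secVal, pullQ, Scheme.Hom.appLE_comp_appLE]
      exact ι_comp_eq _ _ _
    have hz : z = d ≫ ((a' ⁻¹ᵁ Q).ι ⁻¹ᵁ U'.1).toSpecΓ ≫ Spec.map (resQ (Q := Q) a' (U' := U')) := by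
      rw [← cancel_mono U'.2.fromSpec, ← hc, ← hd]
      simp only [Category.assoc, h1]
    rw [hw, hz, ← hd]
    simp only [Category.assoc, h2]
    rw [← hψ, Spec.map_comp_assoc]

end Groth.Agent.H26Ext
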